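import Groth.Agent.S1540
import Groth.Agent.CAlgH3.GeomBridge
import Groth.Agent.DimLib.OverBridge

/-! A field extension is geometrically irreducible iff the base is separably closed in it. -/

set_option autoImplicit false
set_option backward.isDefEq.respectTransparency false
universe u

open CategoryTheory Limits AlgebraicGeometry TensorProduct
attribute [local instance] Curv2.resAlgebra

namespace Groth.Agent.FlatMor12.RatLine

theorem irreducible_iff_sepIn (k K : Type u) [Field k] [Field K] [Algebra k K] :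
    (∀ (k' : Type u) [Field k'] [Algebra k k'], IrreducibleSpace (PrimeSpectrum (k' ⊗[k] K))) ↔
      ∀ a : K, IsSeparable k a → a ∈ Set.range (algebraMap k K) := by
  rw [← CAlgH3.GeomBridge.irreducible_iff]
  let X : Scheme.{u} := Spec (CommRingCat.of K)
  letI : X.Over (Spec (CommRingCat.of k)) := ⟨CAlgH3.GeomBridge.str k K⟩
  haveI : IrreducibleSpace X := inferInstanceAs (IrreducibleSpace (PrimeSpectrum K))
  let x : X := genericPoint X
  let φ : CommRingCat.of K ⟶ X.residueField x := Spec.preimage (X.fromSpecResidueField x)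
  obtain ⟨⟨p, ψ⟩, hψ⟩ := (Scheme.SpecToEquivOfField K X).symm.surjective (𝟙 X)
  simp only [Scheme.SpecToEquivOfField, Equiv.coe_fn_symm_mk] at hψ
  obtain rfl : p = x := Subsingleton.elim (α := PrimeSpectrum K) _ _
  have hφψ : φ ≫ ψ = 𝟙 _ := Spec.map_injective (by rw [Spec.map_comp, Spec.map_preimage, hψ, Spec.map_id])
  have hbij : Function.Bijective ψ.hom := ⟨ψ.hom.injective, fun c => ⟨φ.hom c, congr($(hφψ).hom c)⟩⟩
  have hk : ∀ c : k, ψ.hom (Curv2.resMap k X x c) = algebraMap k K c := by
    have h1 : Spec.map (CommRingCat.ofHom (Curv2.resMap k X x)) =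
        Spec.map φ ≫ CAlgH3.GeomBridge.str k K := by
      rw [← DimLib.baseRingHom_eq_resMap, DimLib.specMap_baseRingHom, Spec.map_preimage]; rfl
    rw [← Spec.map_comp] at h1
    intro c
    have h2 : Curv2.resMap k X x c = φ.hom (algebraMap k K c) := congr($(Spec.map_injective h1).hom c)
    rw [h2]
    exact congr($(hφψ).hom _)
  let e : X.residueField x ≃ₐ[k] K :=
    AlgEquiv.ofRingEquiv (f := RingEquiv.ofBijective ψ.hom hbij) hk
  refine (S1540.result k X).trans ⟨fun h a ha => ?_, fun h a ha => ?_⟩
  · obtain ⟨c, hc⟩ := h (e.symm a) ((isSeparable_map_iff e.symm.toAlgHom e.symm.injective).2 ha)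
    exact ⟨c, by rw [← e.apply_symm_apply a, ← hc, e.commutes]⟩
  · obtain ⟨c, hc⟩ := h (e a) ((isSeparable_map_iff e.toAlgHom e.injective).2 ha)
    exact ⟨c, e.injective (by rw [e.commutes]; exact hc)⟩

end Groth.Agent.FlatMor12.RatLine
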