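import Groth.Agent.FlatMor12.RatLine.Bridge
import Groth.Agent.CAlgH3.GeomRatFunc
import Mathlib.FieldTheory.RatFunc.IntermediateField

/-! Separable closedness and adjoining a transcendental element. -/

set_option autoImplicit false
set_option backward.isDefEq.respectTransparency false
universe u

open Polynomial IntermediateField

namespace Groth.Agent.FlatMor12.RatLine

variable {k : Type*} {W : Type u} [Field k] [Field W] [Algebra k W]

/-- Every element of `G` separable over `F` lies in `F`. -/
def SepIn (F G : IntermediateField k W) : Prop := ∀ w ∈ G, IsSeparable F w → w ∈ F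

/-- `F(t)`. -/
noncomputable def ext (F : IntermediateField k W) (t : W) : IntermediateField k W :=
  IntermediateField.adjoin k (↑F ∪ {t})

theorem le_ext (F : IntermediateField k W) (t : W) : F ≤ ext F t :=
  fun _ hx => subset_adjoin k _ (Or.inl hx)

theorem mem_ext (F : IntermediateField k W) (t : W) : t ∈ ext F t :=
  subset_adjoin k _ (Or.inr rfl)

theorem ext_le {F H : IntermediateField k W} {t : W} (hF : F ≤ H) (ht : t ∈ H) : ext F t ≤ H := by
  rw [ext, adjoin_le_iff]
  rintro x (hx | rfl)
  · exact hF hx
  · exact ht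

theorem ext_mono {F G : IntermediateField k W} (h : F ≤ G) (t : W) : ext F t ≤ ext G t :=
  ext_le (h.trans (le_ext G t)) (mem_ext G t)

/-- The evaluation `F(X) → W` at a transcendental element. -/
noncomputable def ev {F : IntermediateField k W} {t : W} (ht : Transcendental F t) : RatFunc F →+* W :=
  IsFractionRing.lift (K := RatFunc F)
    (show Function.Injective (Polynomial.aeval (R := F) t).toRingHom from transcendental_iff_injective.1 ht)

theorem ev_algebraMap {F : IntermediateField k W} {t : W} (ht : Transcendental F t) (p : Polynomial F) :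
    ev ht (algebraMap _ (RatFunc F) p) = Polynomial.aeval t p :=
  IsFractionRing.lift_algebraMap _ _

theorem ev_C {F : IntermediateField k W} {t : W} (ht : Transcendental F t) (c : F) :
    ev ht (RatFunc.C c) = (c : W) := by
  rw [← RatFunc.algebraMap_C, ev_algebraMap, aeval_C]
  rfl

theorem ev_mem_ext {F : IntermediateField k W} {t : W} (ht : Transcendental F t) (v : RatFunc F) :
    ev ht v ∈ ext F t := by
  have hp : ∀ p : Polynomial F, ev ht (algebraMap _ (RatFunc F) p) ∈ ext F t := by
    intro p
    rw [ev_algebraMap, Polynomial.aeval_eq_sum_range]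
    refine sum_mem fun i _ => ?_
    rw [Algebra.smul_def]
    exact mul_mem (le_ext F t (p.coeff i).2) (pow_mem (mem_ext F t) i)
  rw [← RatFunc.num_div_denom v, map_div₀]
  exact div_mem (hp _) (hp _)

theorem exists_ev_eq {F : IntermediateField k W} {t : W} (ht : Transcendental F t) {w : W}
    (hw : w ∈ ext F t) : ∃ v, ev ht v = w := by
  induction hw using IntermediateField.adjoin_induction k with
  | mem x hx =>
    rcases hx with hx | rfl
    · exact ⟨RatFunc.C ⟨x, hx⟩, ev_C ht _⟩
    · exact ⟨algebraMap _ _ X, by rw [ev_algebraMap, aeval_X]⟩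
  | algebraMap c => exact ⟨RatFunc.C (algebraMap k F c), ev_C ht _⟩
  | add x y _ _ hx hy =>
    obtain ⟨a, rfl⟩ := hx
    obtain ⟨b, rfl⟩ := hy
    exact ⟨a + b, map_add _ a b⟩
  | inv x _ hx =>
    obtain ⟨a, rfl⟩ := hx
    exact ⟨a⁻¹, map_inv₀ _ a⟩
  | mul x y _ _ hx hy =>
    obtain ⟨a, rfl⟩ := hx
    obtain ⟨b, rfl⟩ := hy
    exact ⟨a * b, map_mul _ a b⟩

/-- `F` is algebraically closed in `F(t)`. -/
theorem mem_of_algebraic {F : IntermediateField k W} {t : W} (ht : Transcendental F t) {w : W}
    (hw : w ∈ ext F t) (halg : IsAlgebraic F w) : w ∈ F := by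
  obtain ⟨v, rfl⟩ := exists_ev_eq ht hw
  let e : RatFunc F →ₐ[F] W := { ev ht with commutes' := fun c => ev_C ht c }
  by_cases hv : ∃ c, v = RatFunc.C c
  · obtain ⟨c, rfl⟩ := hv
    rw [ev_C]
    exact c.2
  · exact absurd ((isAlgebraic_algHom_iff e e.toRingHom.injective).1 halg)
      (RatFunc.transcendental_of_ne_C v hv)

/-- The rational function fields inherit separable closedness. -/
theorem exists_algebra_ratFunc_sepIn (F G : Type u) [Field F] [Field G] [Algebra F G]
    (hbase : ∀ a : G, IsSeparable F a → a ∈ Set.range (algebraMap F G)) :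
    ∃ _ : Algebra (RatFunc F) (RatFunc G),
      (∀ p : Polynomial F, algebraMap (RatFunc F) (RatFunc G) (algebraMap _ (RatFunc F) p) =
        algebraMap _ (RatFunc G) (p.map (algebraMap F G))) ∧
      ∀ v : RatFunc G, IsSeparable (RatFunc F) v → v ∈ Set.range (algebraMap (RatFunc F) (RatFunc G)) := by
  let g : Polynomial F →+* RatFunc G :=
    (algebraMap (Polynomial G) (RatFunc G)).comp (Polynomial.mapRingHom (algebraMap F G))
  have hg : Function.Injective g :=
    (IsFractionRing.injective (Polynomial G) (RatFunc G)).comp (Polynomial.map_injective _ (algebraMap F G).injective)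
  letI iA : Algebra (RatFunc F) (RatFunc G) := (IsFractionRing.lift (K := RatFunc F) hg).toAlgebra
  have hcompat : ∀ p : Polynomial F, algebraMap (RatFunc F) (RatFunc G) (algebraMap _ (RatFunc F) p) =
      algebraMap _ (RatFunc G) (p.map (algebraMap F G)) := fun p => IsFractionRing.lift_algebraMap hg p
  haveI : IsScalarTower F (RatFunc F) (RatFunc G) := .of_algebraMap_eq fun c => by
    rw [IsScalarTower.algebraMap_apply F (Polynomial F) (RatFunc F), hcompat, Polynomial.algebraMap_apply,
      Polynomial.map_C, IsScalarTower.algebraMap_apply F (Polynomial G) (RatFunc G)]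
    rfl
  exact ⟨iA, hcompat, (irreducible_iff_sepIn (RatFunc F) (RatFunc G)).1
    ((CAlgH3.GeomRatFunc.main hcompat).1 ((irreducible_iff_sepIn F G).2 hbase))⟩

/-- Separable closedness is preserved by adjoining a transcendental element. -/
theorem sepIn_ext {F G : IntermediateField k W} (hFG : F ≤ G) (h : SepIn F G) {t : W}
    (ht : Transcendental G t) : SepIn (ext F t) (ext G t) := by
  letI : Algebra F G := (IntermediateField.inclusion hFG).toRingHom.toAlgebra
  haveI : IsScalarTower F G W := .of_algebraMap_eq fun _ => rfl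
  have ht' : Transcendental F t := ht.restrictScalars (IntermediateField.inclusion hFG).toRingHom.injective
  have hbase : ∀ a : G, IsSeparable F a → a ∈ Set.range (algebraMap F G) := by
    intro a ha
    have := h a a.2 ((isSeparable_map_iff (IsScalarTower.toAlgHom F G W) Subtype.val_injective).2 ha)
    exact ⟨⟨a, this⟩, Subtype.ext rfl⟩
  obtain ⟨iA, hcompat, hsep⟩ := exists_algebra_ratFunc_sepIn F G hbase
  letI := iA
  have hcomp : (ev ht).comp (algebraMap (RatFunc F) (RatFunc G)) = ev ht' := by
    refine IsLocalization.ringHom_ext (nonZeroDivisors (Polynomial F)) (RingHom.ext fun p => ?_)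
    simp only [RingHom.comp_apply, hcompat, ev_algebraMap, Polynomial.aeval_map_algebraMap]
  intro w hw hs
  obtain ⟨v, rfl⟩ := exists_ev_eq ht hw
  letI : Algebra (RatFunc F) W := (ev ht').toAlgebra
  let e : RatFunc G →ₐ[RatFunc F] W :=
    { ev ht with commutes' := fun c => congr($hcomp c) }
  let i : RatFunc F →+* ext F t := (ev ht').codRestrict (ext F t).toSubfield (ev_mem_ext ht')
  have hi : Function.Bijective i := ⟨i.injective, fun y => by
    obtain ⟨c, hc⟩ := exists_ev_eq ht' y.2
    exact ⟨c, Subtype.ext hc⟩⟩
  let ι := RingEquiv.ofBijective i hi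
  have hv : IsSeparable (RatFunc F) v := by
    rw [← isSeparable_map_iff e e.toRingHom.injective]
    refine Polynomial.Separable.of_dvd
      (Polynomial.Separable.map (f := ι.symm.toRingHom) hs) (minpoly.dvd _ _ ?_)
    rw [Polynomial.aeval_def, Polynomial.eval₂_map]
    have he : (algebraMap (RatFunc F) W).comp ι.symm.toRingHom = algebraMap (ext F t) W := by
      refine RingHom.ext fun y => ?_
      show ((ι (ι.symm y) : ext F t) : W) = y
      rw [ι.apply_symm_apply]
    rw [he, ← Polynomial.aeval_def]
    exact minpoly.aeval _ _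
  obtain ⟨c, rfl⟩ := hsep v hv
  show ev ht _ ∈ _
  rw [← RingHom.comp_apply, hcomp]
  exact ev_mem_ext ht' c

end Groth.Agent.FlatMor12.RatLine
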