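import Groth.Agent.FlatMor12.RatLine.Main
import Mathlib.RingTheory.Localization.FractionRing
import Mathlib.RingTheory.MvPolynomial.Basic

/-! Separable closedness of the generic linear section in the rational function field. -/

set_option autoImplicit false
universe u

open IntermediateField

namespace Groth.Agent.FlatMor12.RatLine

variable {k K : Type u} [Field k] [Field K] [Algebra k K] {ι : Type} [Fintype ι] [DecidableEq ι]

local notation "X'" => MvPolynomial.X

/-- The linear change of coordinates `x_i ↦ y_i + c_i t`. -/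
noncomputable def coordChange (c : ι → K) (i0 : ι) (hc : c i0 ≠ 0) :
    MvPolynomial ι K ≃ₐ[K] MvPolynomial ι K :=
  AlgEquiv.ofAlgHom
    (MvPolynomial.aeval fun i => (if i = i0 then 0 else X' i) + MvPolynomial.C (c i) * X' i0)
    (MvPolynomial.aeval fun i =>
      if i = i0 then MvPolynomial.C (c i0)⁻¹ * X' i0 else X' i - MvPolynomial.C (c i * (c i0)⁻¹) * X' i0)
    (MvPolynomial.algHom_ext fun i => by
      have hC : MvPolynomial.C (σ := ι) (c i0)⁻¹ * MvPolynomial.C (c i0) = 1 := by
        rw [← map_mul, inv_mul_cancel₀ hc, map_one]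
      by_cases hi : i = i0
      · subst hi
        simp only [AlgHom.coe_comp, Function.comp_apply, MvPolynomial.aeval_X, AlgHom.id_apply, if_true,
          map_mul, MvPolynomial.aeval_C, MvPolynomial.algebraMap_eq, zero_add, ← mul_assoc]
        rw [hC, one_mul]
      · simp only [AlgHom.coe_comp, Function.comp_apply, MvPolynomial.aeval_X, AlgHom.id_apply, if_neg hi,
          if_true, map_sub, map_mul, MvPolynomial.aeval_C, MvPolynomial.algebraMap_eq]
        linear_combination (- MvPolynomial.C (c i) * X' i0) * hC)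
    (MvPolynomial.algHom_ext fun i => by
      have hC : MvPolynomial.C (σ := ι) (c i0)⁻¹ * MvPolynomial.C (c i0) = 1 := by
        rw [← map_mul, inv_mul_cancel₀ hc, map_one]
      by_cases hi : i = i0
      · subst hi
        simp only [AlgHom.coe_comp, Function.comp_apply, MvPolynomial.aeval_X, AlgHom.id_apply, if_true,
          map_add, map_mul, map_zero, MvPolynomial.aeval_C, MvPolynomial.algebraMap_eq, zero_add]
        linear_combination X' i * hC
      · simp only [AlgHom.coe_comp, Function.comp_apply, MvPolynomial.aeval_X, AlgHom.id_apply, if_neg hi,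
          if_true, map_add, map_mul, MvPolynomial.aeval_C, MvPolynomial.algebraMap_eq]
        ring)

theorem coordChange_X (c : ι → K) (i0 : ι) (hc : c i0 ≠ 0) (i : ι) :
    coordChange c i0 hc (X' i) = (if i = i0 then 0 else X' i) + MvPolynomial.C (c i) * X' i0 := by
  simp [coordChange]

variable {F : Type u} [Field F] [Algebra k F] [Algebra K F] [IsScalarTower k K F]

/-- Separability transported along a map of fields. -/
theorem isSeparable_map₂ {A B V V' : Type*} [Field A] [Field B] [Field V] [Field V'] [Algebra A V]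
    [Algebra B V'] (i : A →+* B) (σ : V →+* V')
    (h : ∀ a, algebraMap B V' (i a) = σ (algebraMap A V a)) {x : V}
    (hx : IsSeparable A x) : IsSeparable B (σ x) := by
  refine Polynomial.Separable.of_dvd (Polynomial.Separable.map (f := i) hx) (minpoly.dvd _ _ ?_)
  rw [Polynomial.aeval_def, Polynomial.eval₂_map,
    show (algebraMap B V').comp i = σ.comp (algebraMap A V) from RingHom.ext h, ← Polynomial.hom_eval₂,
    ← Polynomial.aeval_def, minpoly.aeval, map_zero]

theorem mem_of_sepIn_map {V V' : Type*} [Field V] [Field V'] [Algebra k V] [Algebra k V'] (jk : V →ₐ[k] V')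
    (L : IntermediateField k V) (L' G : IntermediateField k V') (hL : L' = L.map jk) (h : SepIn L' G)
    {a : V} (haG : jk a ∈ G) (ha : IsSeparable L a) : a ∈ L := by
  subst hL
  have := h (jk a) haG (isSeparable_map₂ (A := L) (B := L.map jk)
    ((jk.toRingHom.comp L.toSubfield.subtype).codRestrict (L.map jk).toSubfield fun x => ⟨x, x.2, rfl⟩)
    jk.toRingHom (fun _ => rfl) ha)
  obtain ⟨b, hb, hba⟩ := this
  exact jk.toRingHom.injective hba ▸ hb

section

variable {Ω W : Type u} [Field Ω] [Field W] [Algebra k Ω] [Algebra K Ω] [IsScalarTower k K Ω]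
  [Algebra (MvPolynomial ι K) Ω] [IsScalarTower K (MvPolynomial ι K) Ω] [IsFractionRing (MvPolynomial ι K) Ω]
  [Algebra k W] [Algebra K W] [Algebra F W] [IsScalarTower k K W] [IsScalarTower K F W] [IsScalarTower k F W]
  [Algebra (MvPolynomial ι F) W] [IsScalarTower F (MvPolynomial ι F) W] [IsFractionRing (MvPolynomial ι F) W]

theorem sepIn_line_aux (hfg : (⊤ : IntermediateField k K).FG)
    (h0 : ∀ a : K, IsSeparable k a → a ∈ Set.range (algebraMap k K))
    (r s : F) (hrs : AlgebraicIndependent K ![r, s]) (hF : IntermediateField.adjoin K ({r, s} : Set F) = ⊤)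
    (g : ι → K) (c : ι → k) (xΩ : ι → Ω) (hxΩ : ∀ i, xΩ i = algebraMap (MvPolynomial ι K) Ω (X' i))
    (ξΩ zΩ : Ω) (hξΩ : ξΩ = ∑ i, algebraMap K Ω (g i) * xΩ i) (hzΩ : zΩ = algebraMap K Ω (∑ i, c i • g i))
    (hind : AlgebraicIndependent k (Sum.elim xΩ ![ξΩ, zΩ]))
    (w : ι → W) (hw : ∀ i, w i = algebraMap (MvPolynomial ι F) W (X' i)) :
    SepIn (IntermediateField.adjoin k (Set.range xΩ ∪ {ξΩ})) (⊤ : IntermediateField k Ω) := by
  classical
  -- a nonzero coordinate of `c`
  obtain ⟨i0, hc0⟩ : ∃ i, c i ≠ 0 := by
    by_contra hh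
    push Not at hh
    exact hind.ne_zero (Sum.inr 1) (by simp [hh, hzΩ])
  let cK : ι → K := fun i => algebraMap k K (c i)
  have hcK : cK i0 ≠ 0 := (map_ne_zero _).2 hc0
  -- the coordinates in `W`
  have hwF : AlgebraicIndependent F w := by
    have h := (MvPolynomial.algebraicIndependent_X ι F).map' (f := IsScalarTower.toAlgHom F (MvPolynomial ι F) W)
      (IsFractionRing.injective (MvPolynomial ι F) W)
    rw [show w = _ from funext hw]
    exact h
  have hall : AlgebraicIndependent K (Sum.elim w (algebraMap F W ∘ ![r, s])) := hrs.sumElim_comp hwF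
  have hwK : AlgebraicIndependent K w := hall.comp _ Sum.inl_injective
  let φ : MvPolynomial ι K →ₐ[K] W := (MvPolynomial.aeval w).comp (coordChange cK i0 hcK).toAlgHom
  have hφ : Function.Injective φ := (show Function.Injective (MvPolynomial.aeval (R := K) w) from hwK).comp (coordChange cK i0 hcK).injective
  let j : Ω →ₐ[K] W := IsFractionRing.liftAlgHom hφ
  have hj : ∀ p, j (algebraMap (MvPolynomial ι K) Ω p) = φ p := fun p => IsFractionRing.lift_algebraMap hφ p
  let jk : Ω →ₐ[k] W := j.restrictScalars k
  have hjx : ∀ i, j (xΩ i) = (if i = i0 then 0 else w i) + algebraMap k W (c i) * w i0 := by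
    intro i
    rw [hxΩ, hj]
    show MvPolynomial.aeval w (coordChange cK i0 hcK (X' i)) = _
    rw [coordChange_X, map_add, map_mul, MvPolynomial.aeval_C, MvPolynomial.aeval_X,
      ← IsScalarTower.algebraMap_apply]
    by_cases hi : i = i0 <;> simp [hi]
  let KW : IntermediateField k W := (IsScalarTower.toAlgHom k K W).fieldRange
  have hKWmem : ∀ a : K, algebraMap K W a ∈ KW := fun a => ⟨a, rfl⟩
  obtain ⟨S, hS⟩ := hfg
  let SW : Finset W := S.image (algebraMap K W)
  have hSW : IntermediateField.adjoin k (SW : Set W) = KW := by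
    rw [Finset.coe_image, show (algebraMap K W : K → W) = ⇑(IsScalarTower.toAlgHom k K W) from rfl,
      ← IntermediateField.adjoin_map, hS, ← AlgHom.fieldRange_eq_map]
  let r' : W := algebraMap F W r
  let s' : W := algebraMap F W s
  let G := IntermediateField.adjoin k ((KW : Set W) ∪ Set.range w)
  have hwG : ∀ i, w i ∈ G := fun i => subset_adjoin k _ (Or.inr ⟨i, rfl⟩)
  have hKG : ∀ a, algebraMap K W a ∈ G := fun a => subset_adjoin k _ (Or.inl (hKWmem a))
  have hjG : ∀ a : Ω, j a ∈ G := by
    have hp : ∀ p, φ p ∈ G := by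
      intro p
      show MvPolynomial.aeval w (coordChange cK i0 hcK p) ∈ G
      induction coordChange cK i0 hcK p using MvPolynomial.induction_on with
      | C a => rw [MvPolynomial.aeval_C]; exact hKG a
      | add p q hp hq => rw [map_add]; exact add_mem hp hq
      | mul_X p i hp => rw [map_mul, MvPolynomial.aeval_X]; exact mul_mem hp (hwG i)
    intro a
    obtain ⟨p, q, _, rfl⟩ := IsFractionRing.div_surjective (MvPolynomial ι K) a
    rw [map_div₀, hj, hj]
    exact div_mem (hp p) (hp q)
  have hGj : G ≤ jk.fieldRange := by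
    rw [adjoin_le_iff]
    rintro x (⟨a, rfl⟩ | ⟨i, rfl⟩)
    · exact ⟨algebraMap K Ω a, j.commutes a⟩
    · refine ⟨algebraMap (MvPolynomial ι K) Ω ((coordChange cK i0 hcK).symm (X' i)), ?_⟩
      show j _ = w i
      rw [hj]
      show MvPolynomial.aeval w (coordChange cK i0 hcK ((coordChange cK i0 hcK).symm (X' i))) = _
      rw [AlgEquiv.apply_symm_apply, MvPolynomial.aeval_X]
  -- algebraic independence facts
  have hKW : AlgebraicIndependent KW (Sum.elim w (algebraMap F W ∘ ![r, s])) := by
    let f : K →+* KW := (algebraMap K W).codRestrict KW.toSubfield hKWmem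
    refine AlgebraicIndependent.ringHom_of_comp_eq f (RingHom.id W) hall ?_ Function.injective_id rfl
    rintro ⟨x, a, rfl⟩
    exact ⟨a, Subtype.ext rfl⟩
  have hr : Transcendental G r' := by
    refine transcendental_of_subset G _ ?_
      (transcendental_over KW hKW (s := Set.range Sum.inl) (i := Sum.inr 0) (by simp))
    exact IntermediateField.adjoin.mono k _ _ (Set.union_subset_union_right _ (by
      rintro _ ⟨i, rfl⟩; exact ⟨Sum.inl i, ⟨i, rfl⟩, rfl⟩))
  have hs : Transcendental (IntermediateField.adjoin k ((KW : Set W) ∪ Set.range w ∪ {r'})) s' := by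
    refine transcendental_of_subset _ _ ?_
      (transcendental_over KW hKW (s := Set.range Sum.inl ∪ {Sum.inr 0}) (i := Sum.inr 1) (by simp))
    refine IntermediateField.adjoin.mono k _ _ ?_
    rintro x ((hx | ⟨i, rfl⟩) | rfl)
    · exact Or.inl hx
    · exact Or.inr ⟨Sum.inl i, Or.inl ⟨i, rfl⟩, rfl⟩
    · exact Or.inr ⟨Sum.inr 0, Or.inr rfl, rfl⟩
  let fam : ι ⊕ Fin 2 → W := fun a => j (Sum.elim xΩ ![ξΩ, zΩ] a)
  have hfam : AlgebraicIndependent k fam := hind.map' (f := jk) jk.toRingHom.injective
  have hv1 : AlgebraicIndependent k (fun o : Option (ι ⊕ Fin 2) => o.elim r' fam) := by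
    refine (hfam.option_iff_transcendental r').2 (hr.of_tower_top_of_subalgebra_le
      (B := G.toSubalgebra) ?_)
    rw [Algebra.adjoin_le_iff]
    rintro _ ⟨a, rfl⟩
    exact hjG _
  have hv2 : AlgebraicIndependent k
      (fun o : Option (Option (ι ⊕ Fin 2)) => o.elim s' fun o => o.elim r' fam) := by
    refine (hv1.option_iff_transcendental s').2 (hs.of_tower_top_of_subalgebra_le
      (B := (IntermediateField.adjoin k ((KW : Set W) ∪ Set.range w ∪ {r'})).toSubalgebra) ?_)
    rw [Algebra.adjoin_le_iff]
    rintro _ ⟨a | a, rfl⟩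
    · exact subset_adjoin k _ (Or.inr rfl)
    · exact (IntermediateField.adjoin.mono k _ _ Set.subset_union_left) (hjG _)
  let L := IntermediateField.adjoin k (Set.range xΩ ∪ {ξΩ})
  have hwL : ∀ i, w i ∈ IntermediateField.adjoin k (jk '' (Set.range xΩ ∪ {ξΩ})) := by
    have hx : ∀ i, j (xΩ i) ∈ IntermediateField.adjoin k (jk '' (Set.range xΩ ∪ {ξΩ})) :=
      fun i => subset_adjoin k _ ⟨_, Or.inl ⟨i, rfl⟩, rfl⟩
    have hi0 : w i0 ∈ IntermediateField.adjoin k (jk '' (Set.range xΩ ∪ {ξΩ})) := by
      have := mul_mem (IntermediateField.algebraMap_mem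
        (IntermediateField.adjoin k (jk '' (Set.range xΩ ∪ {ξΩ}))) (c i0)⁻¹) (hx i0)
      rwa [hjx i0, if_pos rfl, zero_add, ← mul_assoc, ← map_mul, inv_mul_cancel₀ hc0, map_one,
        one_mul] at this
    intro i
    by_cases hi : i = i0
    · rw [hi]; exact hi0
    · have := sub_mem (hx i) (mul_mem (IntermediateField.algebraMap_mem
        (IntermediateField.adjoin k (jk '' (Set.range xΩ ∪ {ξΩ}))) (c i)) hi0)
      rwa [hjx i, if_neg hi, add_sub_cancel_right] at this
  have hzt : Transcendental (IntermediateField.adjoin k (Set.range w ∪ {j ξΩ, r', s'})) (j zΩ) := by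
    refine transcendental_of_subset _ _ ?_ (transcendental_of_algebraicIndependent hv2
      (s := {some (some (Sum.inr 1))}ᶜ) (i := some (some (Sum.inr 1))) (by simp))
    show IntermediateField.adjoin k _ ≤ IntermediateField.adjoin k _
    rw [adjoin_le_iff]
    have hv : ∀ o ≠ some (some (Sum.inr 1)),
        (fun o : Option (Option (ι ⊕ Fin 2)) => o.elim s' fun o => o.elim r' fam) o ∈
          IntermediateField.adjoin k ((fun o : Option (Option (ι ⊕ Fin 2)) =>
            o.elim s' fun o => o.elim r' fam) '' {some (some (Sum.inr 1))}ᶜ) :=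
      fun o ho => subset_adjoin k _ ⟨o, ho, rfl⟩
    rintro x (⟨i, rfl⟩ | rfl | rfl | rfl)
    · refine (IntermediateField.adjoin_le_iff.2 ?_) (hwL i)
      rintro _ ⟨a, ⟨l, rfl⟩ | rfl, rfl⟩
      · exact hv (some (some (Sum.inl l))) (by simp)
      · exact hv (some (some (Sum.inr 0))) (by simp)
    · exact hv (some (some (Sum.inr 0))) (by simp)
    · exact hv (some none) (by simp)
    · exact hv none (by simp)
  -- hypotheses of the translation argument
  have htop : IntermediateField.adjoin k ((KW : Set W) ∪ Set.range w ∪ {r', s'}) = ⊤ := by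
    rw [eq_top_iff]
    rintro x -
    let T := IntermediateField.adjoin k ((KW : Set W) ∪ Set.range w ∪ {r', s'})
    have hFT : ∀ b : F, algebraMap F W b ∈ T := by
      intro b
      have hb : b ∈ IntermediateField.adjoin K ({r, s} : Set F) := hF ▸ IntermediateField.mem_top
      induction hb using IntermediateField.adjoin_induction K with
      | mem x hx =>
        rcases hx with rfl | rfl
        · exact subset_adjoin k _ (Or.inr (Or.inl rfl))
        · exact subset_adjoin k _ (Or.inr (Or.inr rfl))
      | algebraMap a =>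
        rw [← IsScalarTower.algebraMap_apply]
        exact subset_adjoin k _ (Or.inl (Or.inl (hKWmem a)))
      | add x y _ _ hx hy => rw [map_add]; exact add_mem hx hy
      | inv x _ hx => rw [map_inv₀]; exact inv_mem hx
      | mul x y _ _ hx hy => rw [map_mul]; exact mul_mem hx hy
    have hp : ∀ p : MvPolynomial ι F, algebraMap _ W p ∈ T := by
      intro p
      induction p using MvPolynomial.induction_on with
      | C a =>
        rw [← MvPolynomial.algebraMap_eq, ← IsScalarTower.algebraMap_apply]
        exact hFT a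
      | add p q hp hq => rw [map_add]; exact add_mem hp hq
      | mul_X p i hp => rw [map_mul]; exact mul_mem hp (subset_adjoin k _ (Or.inl (Or.inr ⟨i, hw i⟩)))
    obtain ⟨p, q, _, rfl⟩ := IsFractionRing.div_surjective (MvPolynomial ι F) x
    exact div_mem (hp p) (hp q)
  have hσ : ∀ e ∈ IntermediateField.adjoin k ({r', s'} : Set W), ∃ σ : W →ₐ[k] W,
      (∀ a ∈ KW, σ a = a) ∧ σ r' = r' ∧ σ s' = s' ∧ (∀ i, i ≠ i0 → σ (w i) = w i) ∧
      σ (w i0) = w i0 + e ∧ σ (j ξΩ) = j ξΩ + e * j zΩ := by
    intro e he
    have : ({r', s'} : Set W) = IsScalarTower.toAlgHom k F W '' {r, s} := by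
      rw [Set.image_pair]; rfl
    rw [this, ← IntermediateField.adjoin_map] at he
    obtain ⟨e', -, rfl⟩ := he
    let d : MvPolynomial ι F ≃ₐ[F] MvPolynomial ι F := AlgEquiv.ofAlgHom
      (MvPolynomial.aeval fun i => X' i + if i = i0 then MvPolynomial.C e' else 0)
      (MvPolynomial.aeval fun i => X' i - if i = i0 then MvPolynomial.C e' else 0)
      (MvPolynomial.algHom_ext fun i => by by_cases hi : i = i0 <;> simp [hi])
      (MvPolynomial.algHom_ext fun i => by by_cases hi : i = i0 <;> simp [hi])
    let σ : W ≃ₐ[F] W := IsFractionRing.algEquivOfAlgEquiv d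
    have hσw : ∀ i, σ (w i) = w i + if i = i0 then algebraMap F W e' else 0 := by
      intro i
      simp only [σ, hw, IsFractionRing.algEquivOfAlgEquiv_algebraMap]
      simp only [d, AlgEquiv.ofAlgHom_apply, MvPolynomial.aeval_X, map_add]
      have hC : algebraMap (MvPolynomial ι F) W (MvPolynomial.C e') = algebraMap F W e' :=
        (IsScalarTower.algebraMap_apply F (MvPolynomial ι F) W e').symm
      by_cases hi : i = i0 <;> simp [hi, hC]
    have hσF : ∀ b, σ (algebraMap F W b) = algebraMap F W b := σ.commutes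
    have hσK : ∀ a, σ (algebraMap K W a) = algebraMap K W a := fun a => by
      rw [IsScalarTower.algebraMap_apply K F W, hσF]
    refine ⟨σ.toAlgHom.restrictScalars k, ?_, hσF r, hσF s, ?_, ?_, ?_⟩
    · rintro _ ⟨a, rfl⟩
      exact hσK a
    · intro i hi
      show σ (w i) = w i
      rw [hσw, if_neg hi, add_zero]
    · show σ (w i0) = _
      rw [hσw, if_pos rfl]; rfl
    · show σ (j ξΩ) = j ξΩ + algebraMap F W e' * j zΩ
      have hx : ∀ i, σ (j (xΩ i)) = j (xΩ i) + algebraMap k W (c i) * algebraMap F W e' := by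
        intro i
        have hk : σ (algebraMap k W (c i)) = algebraMap k W (c i) := by
          rw [IsScalarTower.algebraMap_apply k F W, hσF]
        rw [hjx, map_add, map_mul, hσw i0, hk, if_pos rfl]
        by_cases hi : i = i0
        · simp [hi, mul_add]
        · rw [if_neg hi, hσw, if_neg hi]; ring
      have hjk : ∀ b, j (algebraMap k Ω b) = algebraMap k W b := jk.commutes
      simp only [hξΩ, hzΩ, map_sum, map_mul, AlgHom.commutes, hσK, hx, Algebra.smul_def,
        ← IsScalarTower.algebraMap_apply, hjk, Finset.mul_sum, ← Finset.sum_add_distrib]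
      exact Finset.sum_congr rfl fun i _ => by ring
  have hW0 : SepIn ⊥ KW := by
    rintro _ ⟨a, rfl⟩ ha
    have : IsSeparable k a := by
      refine (isSeparable_map_iff (IsScalarTower.toAlgHom k K W) (algebraMap K W).injective).1 ?_
      exact isSeparable_map (A := (⊥ : IntermediateField k W)) (B := k)
        (IntermediateField.botEquiv k W).toRingHom (RingHom.id W) (fun b => by
          obtain ⟨b, rfl⟩ := (IntermediateField.botEquiv k W).symm.surjective b
          simp) ha
    obtain ⟨b, rfl⟩ := h0 a this
    exact IntermediateField.mem_bot.2 ⟨b, (AlgHom.commutes _ b).symm⟩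
  have hξG : j ξΩ ∈ G := hjG _
  have hzKW : j zΩ ∈ KW := by
    rw [hzΩ]
    rw [j.commutes]; exact hKWmem _
  have hwKW : AlgebraicIndependent KW w :=
    Sum.elim_comp_inl w (algebraMap F W ∘ ![r, s]) ▸ hKW.comp Sum.inl Sum.inl_injective
  have main : SepIn (IntermediateField.adjoin k (Set.range w ∪ {j ξΩ}))
      (IntermediateField.adjoin k ((KW : Set W) ∪ Set.range w)) :=
    by
    refine sepIn_translation (k := k) (W := W) KW SW hSW w i0 (j ξΩ) (j zΩ) r' s' ?_ ?_ ?_ ?_ ?_ ?_ ?_ ?_ ?_
    · exact htop
    · exact hσ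
    · exact hzKW
    · exact hξG
    · exact hwKW
    · exact hr
    · exact hs
    · exact hzt
    · exact hW0
  -- transport back to `Ω`
  intro a _ ha
  show a ∈ L
  have himage : IntermediateField.adjoin k (Set.range w ∪ {j ξΩ}) = L.map jk := by
    show _ = (IntermediateField.adjoin k _).map jk
    rw [IntermediateField.adjoin_map]
    apply le_antisymm <;> rw [adjoin_le_iff]
    · rintro x (⟨i, rfl⟩ | rfl)
      · exact hwL i
      · exact subset_adjoin k _ ⟨_, Or.inr rfl, rfl⟩
    · rintro _ ⟨b, ⟨i, rfl⟩ | rfl, rfl⟩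
      · show j (xΩ i) ∈ IntermediateField.adjoin k _
        rw [hjx]
        refine add_mem ?_ (mul_mem (IntermediateField.algebraMap_mem _ _)
          (subset_adjoin k _ (Or.inl ⟨i0, rfl⟩)))
        by_cases hi : i = i0
        · rw [if_pos hi]; exact zero_mem _
        · rw [if_neg hi]; exact subset_adjoin k _ (Or.inl ⟨i, rfl⟩)
      · exact subset_adjoin k _ (Or.inr rfl)
  exact mem_of_sepIn_map jk L _ _ himage main (hjG a) ha

end

theorem sepIn_line (hfg : (⊤ : IntermediateField k K).FG)
    (h0 : ∀ a : K, IsSeparable k a → a ∈ Set.range (algebraMap k K)) (g : ι → K) (c : ι → k)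
    (hind : AlgebraicIndependent k
      (Sum.elim (fun i : ι => algebraMap (MvPolynomial ι K) (FractionRing (MvPolynomial ι K)) (X' i))
        ![∑ i, algebraMap K (FractionRing (MvPolynomial ι K)) (g i) *
            algebraMap (MvPolynomial ι K) (FractionRing (MvPolynomial ι K)) (X' i),
          algebraMap K (FractionRing (MvPolynomial ι K)) (∑ i, c i • g i)])) :
    SepIn (IntermediateField.adjoin k
        (Set.range (fun i : ι => algebraMap (MvPolynomial ι K) (FractionRing (MvPolynomial ι K)) (X' i)) ∪
          {∑ i, algebraMap K (FractionRing (MvPolynomial ι K)) (g i) *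
            algebraMap (MvPolynomial ι K) (FractionRing (MvPolynomial ι K)) (X' i)}))
      (⊤ : IntermediateField k (FractionRing (MvPolynomial ι K))) := by
  let P := MvPolynomial (Fin 2) K
  let F' := FractionRing P
  let v : Fin 2 → F' := fun i => algebraMap P F' (X' i)
  have hv : AlgebraicIndependent K v :=
    (MvPolynomial.algebraicIndependent_X (Fin 2) K).map' (f := IsScalarTower.toAlgHom K P F')
      (IsFractionRing.injective P F')
  have hv' : AlgebraicIndependent K ![v 0, v 1] := by
    rwa [show ![v 0, v 1] = v from List.ofFn_inj.1 rfl]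
  have hF : IntermediateField.adjoin K ({v 0, v 1} : Set F') = ⊤ := by
    rw [eq_top_iff]
    rintro x -
    let T := IntermediateField.adjoin K ({v 0, v 1} : Set F')
    have hp : ∀ p : P, algebraMap P F' p ∈ T := by
      intro p
      induction p using MvPolynomial.induction_on with
      | C a =>
        rw [← MvPolynomial.algebraMap_eq, ← IsScalarTower.algebraMap_apply]
        exact IntermediateField.algebraMap_mem _ a
      | add p q hp hq => rw [map_add]; exact add_mem hp hq
      | mul_X p i hp =>
        rw [map_mul]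
        refine mul_mem hp (subset_adjoin K _ ?_)
        fin_cases i
        · exact Or.inl rfl
        · exact Or.inr rfl
    obtain ⟨p, q, _, rfl⟩ := IsFractionRing.div_surjective P x
    exact div_mem (hp p) (hp q)
  exact sepIn_line_aux (F := F') (W := FractionRing (MvPolynomial ι F')) hfg h0 (v 0) (v 1) hv' hF g c _
    (fun _ => rfl) _ _ rfl rfl hind _ (fun _ => rfl)

end Groth.Agent.FlatMor12.RatLine
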