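import Groth.Agent.FlatMor12.RatLine.Tools

/-! Separable closedness over a general rational line: the translation argument. -/

set_option autoImplicit false
universe u

open Polynomial IntermediateField

namespace Groth.Agent.FlatMor12.RatLine

variable {k : Type*} {W : Type u} [Field k] [Field W] [Algebra k W]

theorem sepIn_translation (KW : IntermediateField k W) (S : Finset W)
    (hKW : IntermediateField.adjoin k (S : Set W) = KW) {ι : Type*} [Fintype ι] (w : ι → W) (i0 : ι)
    (ξ z r s : W)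
    (htop : IntermediateField.adjoin k ((KW : Set W) ∪ Set.range w ∪ {r, s}) = ⊤)
    (hσ : ∀ e ∈ IntermediateField.adjoin k ({r, s} : Set W), ∃ σ : W →ₐ[k] W,
      (∀ a ∈ KW, σ a = a) ∧ σ r = r ∧ σ s = s ∧ (∀ i, i ≠ i0 → σ (w i) = w i) ∧
      σ (w i0) = w i0 + e ∧ σ ξ = ξ + e * z)
    (hz : z ∈ KW) (hξ : ξ ∈ IntermediateField.adjoin k ((KW : Set W) ∪ Set.range w))
    (hw : AlgebraicIndependent KW w)
    (hr : Transcendental (IntermediateField.adjoin k ((KW : Set W) ∪ Set.range w)) r)
    (hs : Transcendental (IntermediateField.adjoin k ((KW : Set W) ∪ Set.range w ∪ {r})) s)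
    (hzt : Transcendental (IntermediateField.adjoin k (Set.range w ∪ {ξ, r, s})) z)
    (h0 : SepIn ⊥ KW) :
    SepIn (IntermediateField.adjoin k (Set.range w ∪ {ξ}))
      (IntermediateField.adjoin k ((KW : Set W) ∪ Set.range w)) := by
  classical
  intro θ hθΩ hθsep
  let Ω := IntermediateField.adjoin k ((KW : Set W) ∪ Set.range w)
  let L := IntermediateField.adjoin k (Set.range w ∪ {ξ})
  let E := IntermediateField.adjoin k ({r, s} : Set W)
  choose σ hσK hσr hσs hσw hσt hσξ using hσ
  have hrE : r ∈ E := subset_adjoin k _ (Or.inl rfl)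
  have hsE : s ∈ E := subset_adjoin k _ (Or.inr rfl)
  have hwΩ : ∀ i, w i ∈ Ω := fun i => subset_adjoin k _ (Or.inr ⟨i, rfl⟩)
  have hσE : ∀ a (ha : a ∈ E), ∀ b ∈ E, σ a ha b = b := fun a ha =>
    eqOn_adjoin (σ a ha) (AlgHom.id k W) _ fun x hx => by
      rcases hx with rfl | rfl
      · exact hσr a ha
      · exact hσs a ha
  have hσz : ∀ a (ha : a ∈ E), σ a ha z = z := fun a ha => hσK a ha z hz
  have hmem_top : ∀ x : W, x ∈ IntermediateField.adjoin k ((KW : Set W) ∪ Set.range w ∪ {r, s}) :=
    fun x => htop ▸ IntermediateField.mem_top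
  have comp : ∀ a b c (ha : a ∈ E) (hb : b ∈ E) (hc : c ∈ E), a + b = c →
      ∀ x, σ a ha (σ b hb x) = σ c hc x := by
    intro a b c ha hb hc habc x
    refine eqOn_adjoin ((σ a ha).comp (σ b hb)) (σ c hc) _ ?_ x (hmem_top x)
    rintro y ((hy | ⟨i, rfl⟩) | rfl | rfl) <;> show σ a ha (σ b hb _) = _
    · rw [hσK b hb y hy, hσK a ha y hy, hσK c hc y hy]
    · by_cases hi : i = i0
      · subst hi
        rw [hσt b hb, map_add, hσt a ha, hσE a ha b hb, hσt c hc, ← habc]
        ring
      · rw [hσw b hb i hi, hσw a ha i hi, hσw c hc i hi]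
    · rw [hσr b hb, hσr a ha, hσr c hc]
    · rw [hσs b hb, hσs a ha, hσs c hc]
  have zero : ∀ x, σ 0 (zero_mem E) x = x := fun x => by
    refine eqOn_adjoin (σ 0 _) (AlgHom.id k W) _ ?_ x (hmem_top x)
    rintro y ((hy | ⟨i, rfl⟩) | rfl | rfl)
    · exact hσK 0 _ y hy
    · by_cases hi : i = i0
      · subst hi
        rw [hσt 0, add_zero]; rfl
      · exact hσw 0 _ i hi
    · exact hσr 0 _
    · exact hσs 0 _
  have hLmap : ∀ a (ha : a ∈ E) (T : IntermediateField k W), (∀ i, i ≠ i0 → w i ∈ T) →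
      w i0 + a ∈ T → ξ + a * z ∈ T → ∀ x ∈ L, σ a ha x ∈ T := by
    intro a ha T h1 h2 h3
    refine map_adjoin_subset (σ a ha) _ T ?_
    rintro x (⟨i, rfl⟩ | rfl)
    · by_cases hi : i = i0
      · subst hi
        rw [hσt a ha]
        exact h2
      · rw [hσw a ha i hi]
        exact h1 i hi
    · rw [hσξ a ha]
      exact h3
  have hsepmap : ∀ a (ha : a ∈ E) (T : IntermediateField k W) (hT : ∀ x ∈ L, σ a ha x ∈ T),
      IsSeparable T (σ a ha θ) := fun a ha T hT =>
    isSeparable_map (A := L) (B := T)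
      (((σ a ha).toRingHom.comp L.toSubfield.subtype).codRestrict T.toSubfield fun x => hT x x.2)
      (σ a ha).toRingHom (fun _ => rfl) hθsep
  -- the sequence
  let ev : ℕ → W := fun j => r ^ j * s
  have hev : ∀ j, ev j ∈ E := fun j => mul_mem (pow_mem hrE j) hsE
  let N := IntermediateField.adjoin k (Set.range w ∪ {ξ, z, r, s})
  have hwN : ∀ i, w i ∈ N := fun i => subset_adjoin k _ (Or.inl ⟨i, rfl⟩)
  have hξN : ξ ∈ N := subset_adjoin k _ (Or.inr (by simp))
  have hzN : z ∈ N := subset_adjoin k _ (Or.inr (by simp))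
  have hEN : E ≤ N := by
    rw [adjoin_le_iff]
    rintro x (rfl | rfl) <;> exact subset_adjoin k _ (Or.inr (by simp))
  let f : ℕ → W := fun j => σ (ev j) (hev j) θ
  have hf : ∀ j, IsSeparable N (f j) := fun j => hsepmap _ _ N
    (hLmap _ _ N (fun i _ => hwN i) (add_mem (hwN i0) (hEN (hev j)))
      (add_mem hξN (mul_mem (hEN (hev j)) hzN)))
  have htopN : IntermediateField.adjoin N (S : Set W) = ⊤ := by
    have h1 : IntermediateField.adjoin k ((KW : Set W) ∪ Set.range w ∪ {r, s}) ≤
        (IntermediateField.adjoin N (S : Set W)).restrictScalars k := by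
      have hN : ∀ x ∈ N, x ∈ (IntermediateField.adjoin N (S : Set W)).restrictScalars k :=
        fun x hx => (IntermediateField.adjoin N (S : Set W)).algebraMap_mem ⟨x, hx⟩
      have hK : KW ≤ (IntermediateField.adjoin N (S : Set W)).restrictScalars k := by
        rw [← hKW, adjoin_le_iff]
        exact fun x hx => subset_adjoin N _ hx
      rw [adjoin_le_iff]
      rintro x ((hx | ⟨i, rfl⟩) | rfl | rfl)
      · exact hK hx
      · exact hN _ (hwN i)
      · exact hN _ (hEN hrE)
      · exact hN _ (hEN hsE)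
    rw [eq_top_iff]
    exact fun x _ => h1 (hmem_top x)
  obtain ⟨i, j, hij, hfij⟩ := exists_ne_mem_adjoin N S htopN f hf
  -- the difference
  let ρ : W := r ^ i - r ^ j
  let e : W := ρ * s
  have he : e ∈ E := mul_mem (sub_mem (pow_mem hrE i) (pow_mem hrE j)) hsE
  have hρ : ρ ≠ 0 := by
    intro h
    refine hr ⟨X ^ i - X ^ j, ?_, by simpa [ρ] using h⟩
    intro h'
    exact hij (by
      have := congrArg (fun p => Polynomial.coeff p i) (sub_eq_zero.1 h')
      simp [Polynomial.coeff_X_pow] at this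
      exact this)
  have hs0 : s ≠ 0 := fun h => hs (h.symm ▸ isAlgebraic_zero)
  have he0 : e ≠ 0 := mul_ne_zero hρ hs0
  let u : W := w i0 + e
  let v : W := ξ + e * z
  -- the fields
  let M := IntermediateField.adjoin k (Set.range w ∪ {ξ, θ})
  let Y : Finset ι := Finset.univ.erase i0
  let F0 := IntermediateField.adjoin k (w '' (Y : Set ι))
  let L0 := ext F0 r
  let MR := ext M r
  have hMΩ : M ≤ Ω := by
    rw [adjoin_le_iff]
    rintro x (⟨l, rfl⟩ | rfl | rfl)
    · exact hwΩ l
    · exact hξ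
    · exact hθΩ
  have hF0M : F0 ≤ M := IntermediateField.adjoin.mono k _ _ (by
    rintro _ ⟨l, _, rfl⟩
    exact Or.inl ⟨l, rfl⟩)
  have h1 : SepIn F0 Ω := by
    have hY : SepIn F0 (IntermediateField.adjoin k ((KW : Set W) ∪ w '' (Y : Set ι))) :=
      sepIn_adjoin KW h0 hw Y
    have hi0 : i0 ∉ (Y : Set ι) := by simp [Y]
    have ht := transcendental_over KW hw hi0
    intro a ha hasep
    refine hY a (mem_of_algebraic ht ?_ ?_) hasep
    · rw [ext_adjoin]
      refine (le_of_eq (congrArg (IntermediateField.adjoin k) ?_) : Ω ≤ _) ha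
      ext x
      constructor
      · rintro (hx | ⟨l, rfl⟩)
        · exact Or.inr (Or.inl hx)
        · by_cases hl : l = i0
          · exact Or.inl (by rw [hl])
          · exact Or.inr (Or.inr ⟨l, by simp [Y, hl], rfl⟩)
      · rintro (rfl | hx | ⟨l, _, rfl⟩)
        · exact Or.inr ⟨i0, rfl⟩
        · exact Or.inl hx
        · exact Or.inr ⟨l, rfl⟩
    · exact algebraic_of_subset F0 _
        (IntermediateField.adjoin.mono k _ _ Set.subset_union_right) hasep.isIntegral.isAlgebraic
  have h2 : SepIn L0 MR := fun a ha hasep =>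
    sepIn_ext (hF0M.trans hMΩ) h1 hr a (ext_mono hMΩ r ha) hasep
  have hMR : ∀ x ∈ M, x ∈ MR := fun x hx => le_ext M r hx
  have hwM : ∀ l, w l ∈ M := fun l => subset_adjoin k _ (Or.inl ⟨l, rfl⟩)
  have hξM : ξ ∈ M := subset_adjoin k _ (Or.inr (Or.inl rfl))
  have hrMR : r ∈ MR := mem_ext M r
  have hρMR : ρ ∈ MR := sub_mem (pow_mem hrMR i) (pow_mem hrMR j)
  have hu : Transcendental MR u := by
    refine transcendental_affine MR hρMR (hMR _ (hwM i0)) hρ (transcendental_of_subset MR _ ?_ hs)
    refine ext_le ?_ (subset_adjoin k _ (Or.inr rfl))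
    exact hMΩ.trans (IntermediateField.adjoin.mono k _ _ Set.subset_union_left)
  have hMRu : e ∈ ext MR u := by
    have := sub_mem (mem_ext MR u) (le_ext MR u (hMR _ (hwM i0)))
    simpa [u] using this
  have hv : Transcendental (ext MR u) v := by
    let P := IntermediateField.adjoin k (Set.range w ∪ {ξ, r, s})
    have hθP : IsAlgebraic P θ := algebraic_of_subset L P
      (IntermediateField.adjoin.mono k _ _ (Set.union_subset_union_right _ (by simp)))
      hθsep.isIntegral.isAlgebraic
    refine transcendental_affine (ext MR u) hMRu (le_ext MR u (hMR _ hξM)) he0 ?_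
    refine transcendental_of_subset (ext MR u) _ ?_ (transcendental_adjoin_algebraic P hθP hzt)
    let Q := IntermediateField.adjoin k ((P : Set W) ∪ {θ})
    show ext MR u ≤ Q
    have hPQ : ∀ x ∈ P, x ∈ Q := fun x hx => subset_adjoin k _ (Or.inl hx)
    have hrP : r ∈ P := subset_adjoin k _ (Or.inr (by simp))
    have hsP : s ∈ P := subset_adjoin k _ (Or.inr (by simp))
    have hwP : ∀ l, w l ∈ P := fun l => subset_adjoin k _ (Or.inl ⟨l, rfl⟩)
    refine ext_le (ext_le ?_ (hPQ _ hrP)) (hPQ _ ?_)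
    · rw [adjoin_le_iff]
      rintro x (⟨l, rfl⟩ | rfl | rfl)
      · exact hPQ _ (hwP l)
      · exact hPQ _ (subset_adjoin k _ (Or.inr (by simp)))
      · exact subset_adjoin k _ (Or.inr rfl)
    · exact add_mem (hwP i0) (mul_mem (sub_mem (pow_mem hrP i) (pow_mem hrP j)) hsP)
  have hL0MR : L0 ≤ MR := ext_mono hF0M r
  have h3 : SepIn (ext (ext L0 u) v) (ext (ext MR u) v) :=
    sepIn_ext (ext_mono hL0MR u) (sepIn_ext hL0MR h2 hu) hv
  let A := ext (ext L0 u) v
  let B := ext (ext MR u) v
  have hAB : ∀ x ∈ MR, x ∈ B := fun x hx => le_ext _ v (le_ext MR u hx)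
  have heB : e ∈ B := le_ext _ v hMRu
  have hsB : s ∈ B := by
    have := div_mem heB (hAB _ hρMR)
    rwa [show e / ρ = s from by rw [div_eq_iff hρ]; exact mul_comm ρ s] at this
  have hzB : z ∈ B := by
    have := div_mem (sub_mem (mem_ext _ v) (hAB _ (hMR _ hξM))) heB
    rwa [show (v - ξ) / e = z from by rw [div_eq_iff he0]; simp only [v]; ring] at this
  have hEB : E ≤ B := by
    rw [adjoin_le_iff]
    rintro x (rfl | rfl)
    · exact hAB _ hrMR
    · exact hsB
  have hR : σ e he θ ∈ B := by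
    have hm : -ev j ∈ E := neg_mem (hev j)
    have key : ∀ x ∈ IntermediateField.adjoin k ((N : Set W) ∪ {f j}), σ (-ev j) hm x ∈ B := by
      refine map_adjoin_subset _ _ B ?_
      rintro x (hx | rfl)
      · refine map_adjoin_subset (σ (-ev j) hm) _ B ?_ x hx
        rintro y (⟨l, rfl⟩ | rfl | rfl | rfl | rfl)
        · by_cases hl : l = i0
          · subst hl
            rw [hσt _ hm]
            exact add_mem (hAB _ (hMR _ (hwM _))) (hEB hm)
          · rw [hσw _ hm l hl]
            exact hAB _ (hMR _ (hwM _))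
        · rw [hσξ _ hm]
          exact add_mem (hAB _ (hMR _ hξM)) (mul_mem (hEB hm) hzB)
        · rw [hσz _ hm]; exact hzB
        · rw [hσr _ hm]; exact hAB _ hrMR
        · rw [hσs _ hm]; exact hsB
      · show σ (-ev j) hm (σ (ev j) (hev j) θ) ∈ B
        rw [comp _ _ 0 hm (hev j) (zero_mem E) (neg_add_cancel _), zero]
        exact hAB _ (hMR _ (subset_adjoin k _ (Or.inr (Or.inr rfl))))
    have := key (f i) hfij
    rwa [comp (-ev j) (ev i) e hm (hev i) he (by simp only [ev, e, ρ]; ring)] at this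
  have hRA : σ e he θ ∈ A := h3 _ hR (hsepmap e he A (hLmap e he A
    (fun l hl => le_ext _ v (le_ext L0 u (le_ext F0 r (subset_adjoin k _ ⟨l, by simp [Y, hl], rfl⟩))))
    (le_ext _ v (mem_ext L0 u)) (mem_ext _ v)))
  -- going back
  have hme : -e ∈ E := neg_mem he
  have hθLr : θ ∈ ext L r := by
    have key : ∀ x ∈ A, σ (-e) hme x ∈ ext L r := by
      have hwL : ∀ l, w l ∈ ext L r := fun l => le_ext L r (subset_adjoin k _ (Or.inl ⟨l, rfl⟩))
      refine map_adjoin_subset _ _ (ext L r) ?_
      rintro x (hx | rfl)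
      · refine map_adjoin_subset (σ (-e) hme) _ (ext L r) ?_ x hx
        rintro y (hy | rfl)
        · refine map_adjoin_subset (σ (-e) hme) _ (ext L r) ?_ y hy
          rintro y (hy | hy)
          · refine map_adjoin_subset (σ (-e) hme) _ (ext L r) ?_ y hy
            rintro _ ⟨l, hl, rfl⟩
            rw [hσw _ hme l (by simpa [Y] using hl)]
            exact hwL l
          · rw [show y = r from hy, hσr _ hme]; exact mem_ext L r
        · simp only [u, map_add, hσt _ hme, hσE _ hme e he, neg_add_cancel_right, add_assoc,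
            neg_add_cancel, add_zero]
          exact hwL i0
      · simp only [v, map_add, map_mul, hσξ _ hme, hσE _ hme e he, hσz _ hme]
        have : ξ + -e * z + e * z = ξ := by ring
        rw [this]
        exact le_ext L r (subset_adjoin k _ (Or.inr rfl))
    have := key _ hRA
    rwa [comp (-e) e 0 hme he (zero_mem E) (neg_add_cancel e), zero] at this
  have hrL : Transcendental L r := by
    refine transcendental_of_subset L Ω ?_ hr
    show L ≤ Ω
    rw [adjoin_le_iff]
    rintro x (⟨l, rfl⟩ | rfl)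
    · exact hwΩ l
    · exact hξ
  exact mem_of_algebraic hrL hθLr hθsep.isIntegral.isAlgebraic

end Groth.Agent.FlatMor12.RatLine
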