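import Groth.Agent.FlatMor12.RatLine.FieldLemmas
import Mathlib.RingTheory.AlgebraicIndependent.AlgebraicClosure
import Mathlib.RingTheory.AlgebraicIndependent.TranscendenceBasis
import Mathlib.FieldTheory.PrimitiveElement
import Mathlib.FieldTheory.SeparableClosure

/-! Tools on intermediate fields. -/

set_option autoImplicit false
universe u

open Polynomial IntermediateField

namespace Groth.Agent.FlatMor12.RatLine

variable {k : Type*} {W : Type u} [Field k] [Field W] [Algebra k W]

theorem algebraic_of_ringHom {A B : Type*} [Field A] [Field B] [Algebra A W] [Algebra B W] (i : A →+* B)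
    (h : ∀ a, algebraMap B W (i a) = algebraMap A W a) {x : W} (hx : IsAlgebraic A x) : IsAlgebraic B x := by
  obtain ⟨p, hp0, hp⟩ := hx
  refine ⟨p.map i, Polynomial.map_ne_zero hp0, ?_⟩
  rw [Polynomial.aeval_def, Polynomial.eval₂_map,
    show (algebraMap B W).comp i = algebraMap A W from RingHom.ext h, ← Polynomial.aeval_def, hp]

theorem algebraic_of_subset {k₁ k₂ : Type*} [Field k₁] [Field k₂] [Algebra k₁ W] [Algebra k₂ W]
    (A : IntermediateField k₁ W) (B : IntermediateField k₂ W) (h : (A : Set W) ⊆ B) {x : W}
    (hx : IsAlgebraic A x) : IsAlgebraic B x :=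
  algebraic_of_ringHom (A := A) (B := B)
    { toFun := fun a => ⟨a.1, h a.2⟩, map_one' := rfl, map_mul' := fun _ _ => rfl, map_zero' := rfl,
      map_add' := fun _ _ => rfl } (fun _ => rfl) hx

theorem transcendental_of_subset {k₁ k₂ : Type*} [Field k₁] [Field k₂] [Algebra k₁ W] [Algebra k₂ W]
    (A : IntermediateField k₁ W) (B : IntermediateField k₂ W) (h : (A : Set W) ⊆ B) {x : W}
    (hx : Transcendental B x) : Transcendental A x :=
  fun hA => hx (algebraic_of_subset A B h hA)

/-- Algebraicity is transitive through adjoining one algebraic element. -/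
theorem transcendental_adjoin_algebraic (F : IntermediateField k W) {θ z : W} (hθ : IsAlgebraic F θ)
    (hz : Transcendental F z) : Transcendental (IntermediateField.adjoin k (↑F ∪ {θ})) z := by
  suffices h : ∀ (G : IntermediateField k W) (E : IntermediateField F W), Algebra.IsAlgebraic F E →
      (G : Set W) ⊆ E → Transcendental G z by
    refine h _ F⟮θ⟯ (IntermediateField.isAlgebraic_adjoin_simple (K := F) hθ.isIntegral) fun x hx => ?_
    rw [← IntermediateField.restrictScalars_adjoin] at hx
    exact hx
  intro G E _ hGE hA
  exact hz ((algebraic_of_subset G E hGE hA).restrictScalars F)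

theorem transcendental_affine (F : IntermediateField k W) {a b c : W} (hb : b ∈ F) (hc : c ∈ F)
    (hb0 : b ≠ 0) (ha : Transcendental F a) : Transcendental F (c + b * a) := by
  intro h
  refine ha ?_
  have hc' : IsAlgebraic F c := isAlgebraic_algebraMap (⟨c, hc⟩ : F)
  have hbi : IsAlgebraic F b⁻¹ := isAlgebraic_algebraMap (⟨b⁻¹, inv_mem hb⟩ : F)
  have := (h.sub hc').mul hbi
  rwa [add_sub_cancel_left, mul_comm b a, mul_assoc, mul_inv_cancel₀ hb0, mul_one] at this

theorem transcendental_of_algebraicIndependent {ι : Type*} {v : ι → W}
    (hv : AlgebraicIndependent k v) {s : Set ι} {i : ι} (hi : i ∉ s) :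
    Transcendental (IntermediateField.adjoin k (v '' s)) (v i) :=
  IntermediateField.transcendental_adjoin_iff.2 (hv.transcendental_adjoin hi)

theorem transcendental_over {ι : Type*} {v : ι → W} (G : IntermediateField k W)
    (hv : AlgebraicIndependent G v) {s : Set ι} {i : ι} (hi : i ∉ s) :
    Transcendental (IntermediateField.adjoin k (↑G ∪ v '' s)) (v i) :=
  transcendental_of_subset _ (IntermediateField.adjoin G (v '' s))
    (fun x hx => by
      rw [← IntermediateField.restrictScalars_adjoin] at hx
      exact hx)
    (transcendental_of_algebraicIndependent hv hi)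

theorem ext_adjoin (S : Set W) (t : W) :
    ext (IntermediateField.adjoin k S) t = IntermediateField.adjoin k (insert t S) := by
  apply le_antisymm
  · exact ext_le (IntermediateField.adjoin.mono k _ _ (Set.subset_insert _ _))
      (subset_adjoin k _ (Set.mem_insert _ _))
  · rw [adjoin_le_iff]
    rintro x (rfl | hx)
    · exact mem_ext _ _
    · exact le_ext _ _ (subset_adjoin k _ hx)

theorem sepIn_adjoin {ι : Type*} {v : ι → W} (G : IntermediateField k W) (h : SepIn ⊥ G)
    (hv : AlgebraicIndependent G v) (s : Finset ι) :
    SepIn (IntermediateField.adjoin k (v '' (s : Set ι)))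
      (IntermediateField.adjoin k (↑G ∪ v '' (s : Set ι))) := by
  classical
  induction s using Finset.induction with
  | empty =>
    simp only [Finset.coe_empty, Set.image_empty, Set.union_empty, IntermediateField.adjoin_empty,
      IntermediateField.adjoin_self]
    exact h
  | insert a s ha ih =>
    have hle : IntermediateField.adjoin k (v '' (s : Set ι)) ≤
        IntermediateField.adjoin k (↑G ∪ v '' (s : Set ι)) :=
      IntermediateField.adjoin.mono k _ _ Set.subset_union_right
    have ha' : a ∉ (s : Set ι) := by simpa using ha
    have ht := transcendental_over G hv ha'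
    have := sepIn_ext hle ih ht
    rw [ext_adjoin, ext_adjoin] at this
    rw [Finset.coe_insert, Set.image_insert_eq, Set.union_insert]
    exact this

theorem mem_of_algebraic_adjoin {ι : Type*} {v : ι → W} (F : IntermediateField k W)
    (hv : AlgebraicIndependent F v) (s : Finset ι) {w : W}
    (hw : w ∈ IntermediateField.adjoin k (↑F ∪ v '' (s : Set ι))) (halg : IsAlgebraic F w) : w ∈ F := by
  classical
  induction s using Finset.induction with
  | empty =>
    simpa [IntermediateField.adjoin_self] using hw
  | insert a s ha ih =>
    have ha' : a ∉ (s : Set ι) := by simpa using ha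
    have ht := transcendental_over F hv ha'
    refine ih (mem_of_algebraic ht ?_ ?_)
    · rw [ext_adjoin]
      rwa [Finset.coe_insert, Set.image_insert_eq, Set.union_insert] at hw
    · exact algebraic_of_subset F _ (fun x hx => subset_adjoin k _ (Or.inl hx)) halg

/-- Separability transported along a square of ring maps. -/
theorem isSeparable_map {A B : Type*} [Field A] [Field B] [Algebra A W] [Algebra B W] (i : A →+* B)
    (σ : W →+* W) (h : ∀ a, algebraMap B W (i a) = σ (algebraMap A W a)) {x : W}
    (hx : IsSeparable A x) : IsSeparable B (σ x) := by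
  refine Polynomial.Separable.of_dvd (Polynomial.Separable.map (f := i) hx) (minpoly.dvd _ _ ?_)
  rw [Polynomial.aeval_def, Polynomial.eval₂_map,
    show (algebraMap B W).comp i = σ.comp (algebraMap A W) from RingHom.ext h, ← Polynomial.hom_eval₂,
    ← Polynomial.aeval_def, minpoly.aeval, map_zero]

theorem map_adjoin_subset (σ : W →ₐ[k] W) (S : Set W) (T : IntermediateField k W)
    (h : ∀ x ∈ S, σ x ∈ T) : ∀ x ∈ IntermediateField.adjoin k S, σ x ∈ T := by
  intro x hx
  induction hx using IntermediateField.adjoin_induction k with
  | mem x hx => exact h x hx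
  | algebraMap c => rw [AlgHom.commutes]; exact T.algebraMap_mem c
  | add x y _ _ hx hy => rw [map_add]; exact add_mem hx hy
  | inv x _ hx => rw [map_inv₀]; exact inv_mem hx
  | mul x y _ _ hx hy => rw [map_mul]; exact mul_mem hx hy

theorem eqOn_adjoin (σ τ : W →ₐ[k] W) (S : Set W) (h : ∀ x ∈ S, σ x = τ x) :
    ∀ x ∈ IntermediateField.adjoin k S, σ x = τ x := by
  intro x hx
  induction hx using IntermediateField.adjoin_induction k with
  | mem x hx => exact h x hx
  | algebraMap c => rw [AlgHom.commutes, AlgHom.commutes]
  | add x y _ _ hx hy => rw [map_add, map_add, hx, hy]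
  | inv x _ hx => rw [map_inv₀, map_inv₀, hx]
  | mul x y _ _ hx hy => rw [map_mul, map_mul, hx, hy]

theorem mem_adjoin_union (N : IntermediateField k W) (S : Set W) {x : W}
    (h : x ∈ IntermediateField.adjoin N S) : x ∈ IntermediateField.adjoin k (↑N ∪ S) :=
  (SetLike.ext_iff.1 (IntermediateField.restrictScalars_adjoin (F := k) (K := N) (S := S)) x).1
    ((IntermediateField.mem_restrictScalars k).2 h)

/-- A finite set of generators of `W` over `N` gives finitely many simple separable algebraic
subextensions, up to equality: some two members of a sequence generate the same one. -/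
theorem exists_ne_mem_adjoin (N : IntermediateField k W) (S : Finset W)
    (htop : IntermediateField.adjoin N (S : Set W) = ⊤) (f : ℕ → W) (hf : ∀ j, IsSeparable N (f j)) :
    ∃ i j, i ≠ j ∧ f i ∈ IntermediateField.adjoin k (↑N ∪ {f j}) := by
  classical
  haveI : Algebra.IsAlgebraic (Algebra.adjoin N (S : Set W)) W := by
    rw [← IntermediateField.isAlgebraic_adjoin_iff_top]
    refine ⟨fun x => isAlgebraic_algebraMap (⟨x, by rw [htop]; trivial⟩ : IntermediateField.adjoin N (S : Set W))⟩
  obtain ⟨B, hBS, hB⟩ := exists_isTranscendenceBasis_subset (R := N) (S : Set W)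
  have hBfin : B.Finite := S.finite_toSet.subset hBS
  let N' : IntermediateField N W := IntermediateField.adjoin N B
  haveI halg : Algebra.IsAlgebraic N' W := by
    rw [IntermediateField.isAlgebraic_adjoin_iff_top]
    have := hB.isAlgebraic
    rwa [Subtype.range_coe] at this
  haveI : FiniteDimensional N' W := by
    haveI : Finite (S : Set W) := S.finite_toSet.to_subtype
    haveI := IntermediateField.finiteDimensional_adjoin (K := N') (S := (S : Set W))
      (fun x _ => (Algebra.IsAlgebraic.isAlgebraic x).isIntegral)
    have : IntermediateField.adjoin N' (S : Set W) = ⊤ := by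
      rw [eq_top_iff]
      intro x hxt
      clear hxt
      have hx : x ∈ IntermediateField.adjoin N (S : Set W) := htop ▸ trivial
      induction hx using IntermediateField.adjoin_induction N with
      | mem x hx => exact subset_adjoin N' _ hx
      | algebraMap c => exact (IntermediateField.adjoin N' (S : Set W)).algebraMap_mem (algebraMap N N' c)
      | add x y _ _ hx hy => exact add_mem hx hy
      | inv x _ hx => exact inv_mem hx
      | mul x y _ _ hx hy => exact mul_mem hx hy
    exact Module.Finite.equiv
      ((IntermediateField.equivOfEq this).trans IntermediateField.topEquiv).toLinearEquiv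
  let E := separableClosure N' W
  haveI : Finite (IntermediateField N' E) :=
    Field.finite_intermediateField_of_exists_primitive_element _ _ (Field.exists_primitive_element N' E)
  have hf' : ∀ j, f j ∈ E := fun j =>
    mem_separableClosure_iff.2 ((hf j).tower_top N')
  let g : ℕ → IntermediateField N' E := fun j => IntermediateField.adjoin N' {(⟨f j, hf' j⟩ : E)}
  obtain ⟨i, j, hij, hg⟩ := Finite.exists_ne_map_eq_of_infinite g
  refine ⟨i, j, hij, ?_⟩
  have h1 : f i ∈ IntermediateField.adjoin N' ({f j} : Set W) := by
    have hmem : (⟨f i, hf' i⟩ : E) ∈ g j := hg ▸ subset_adjoin N' _ rfl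
    have := (IntermediateField.mem_map (g j) (f := E.val)).2 ⟨_, hmem, rfl⟩
    rwa [IntermediateField.adjoin_map, Set.image_singleton] at this
  let F : IntermediateField N W := IntermediateField.adjoin N ({f j} : Set W)
  have halgF : Algebra.IsAlgebraic N F := IntermediateField.isAlgebraic_adjoin_simple ((hf j).isIntegral)
  have hBF : AlgebraicIndependent F ((↑) : B → W) := hB.1.extendScalars F
  have h2 : f i ∈ IntermediateField.adjoin N (↑F ∪ ((↑) : B → W) '' (hBfin.fintype.elems : Finset B)) := by
    have h3 : f i ∈ IntermediateField.adjoin N (B ∪ {f j}) := by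
      rw [← IntermediateField.adjoin_adjoin_left]
      exact h1
    refine IntermediateField.adjoin.mono N _ _ ?_ h3
    rintro x (hx | rfl)
    · exact Or.inr ⟨⟨x, hx⟩, hBfin.fintype.complete _, rfl⟩
    · exact Or.inl (subset_adjoin N _ rfl)
  have h4 : f i ∈ F := mem_of_algebraic_adjoin F hBF _ h2
    ((hf i).isIntegral.isAlgebraic.extendScalars (algebraMap N F).injective)
  exact mem_adjoin_union N {f j} h4

end Groth.Agent.FlatMor12.RatLine
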